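import Mathlib
import Cfsg.Agent.Blocks.DegreeEquation.Data
import Cfsg.Agent.Small.FourPQ.PrimeData
import Cfsg.Agent.Recognition.MathieuEleven.Main

/-!
# The characters of degree prime to five or eleven in a simple group of order 7920
-/

set_option autoImplicit false
set_option linter.unusedSectionVars false

namespace Cfsg.Lib.Blocks.MathieuDegrees

open Cfsg Cfsg.Lib.Chars SmallOrder SylowCount DegreeEquation
open scoped ComplexConjugate _root_.Classical

universe u

variable {G : Type u} [Group G] [Fintype G] {p : ℕ} [Fact p.Prime] {M : Ideal AlgInt}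
  {C : Cyc G p} {ν : (ZMod p)ˣ → IrrCharacter G} {δ : ℤ}

/-- For a self-centralizing subgroup the principal block holds the degrees prime to `p`. -/
theorem filter_not_dvd_deg [IsSimpleGroup G] (hC : Core C) (hM : IsPModular p M)
    (hD : C.OrbitData C.oneV ν δ) (hV : Nat.card C.V = 1) :
    Finset.univ.filter (fun χ : IrrCharacter G => ¬ p ∣ deg (χ : G → ℂ)) =
      ordSet C ν ∪ Finset.univ.image ν := by
  have hp := (Fact.out : p.Prime)
  obtain ⟨P, hP⟩ := hC.sylow
  have hv : ∀ v : C.V, v = 1 := fun v => (Nat.card_eq_one_iff_unique.1 hV).1.elim v 1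
  have hone : ∀ θ : IrrCharacter C.V, θ = C.oneV := fun θ => by
    refine Subtype.ext (funext fun v => ?_)
    rw [hv v, irr_deg_one_of_comm (fun a b => by rw [hv a, hv b]) θ.2]
    rfl
  ext χ
  simp only [Finset.mem_filter, Finset.mem_univ, true_and, Finset.mem_union]
  constructor
  · intro hd
    by_cases hl : C.Lies χ C.oneV
    · by_cases hr : χ ∈ Set.range ν
      · obtain ⟨u, rfl⟩ := hr
        exact Or.inr (Finset.mem_image_of_mem _ (Finset.mem_univ _))
      · exact Or.inl (mem_ordSet.2 ⟨hl, hr⟩)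
    · exfalso
      apply hd
      have hvan : ∀ g : G, p ∣ orderOf g → (χ : G → ℂ) g = 0 := fun g hg =>
        C.apply_singular_of_forall_not_lies (fun θ => hone θ ▸ hl) P hP hg
      letI := Fintype.ofFinite (Subgroup.zpowers C.y)
      obtain ⟨m, hm⟩ := IsCharacter.exists_mult
        (IsCharacter.restrict (isCharacter_of_irr χ.2) (Subgroup.zpowers C.y))
        (isIrrCharacter_one (G := Subgroup.zpowers C.y))
      rw [classInner_def, inv_mul_eq_iff_eq_mul₀ (Nat.cast_ne_zero.2 Nat.card_pos.ne'),
        ← Finset.add_sum_erase _ _ (Finset.mem_univ (1 : Subgroup.zpowers C.y)), Nat.card_zpowers,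
        C.order,
        Finset.sum_eq_zero fun (u : Subgroup.zpowers C.y) (hu : u ∈ Finset.univ.erase 1) => by
          have hne : (u : G) ≠ 1 := fun h => Finset.ne_of_mem_erase hu (Subtype.ext h)
          show (χ : G → ℂ) (u : G) * conj (1 : ℂ) = 0
          have ho : orderOf (u : G) ∣ p := by
            have := Subgroup.orderOf_dvd_natCard _ u.2
            rwa [Nat.card_zpowers, C.order] at this
          rw [hvan _ ?_, zero_mul]
          rcases (Nat.dvd_prime hp).1 ho with e | e
          · exact absurd (orderOf_eq_one_iff.1 e) hne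
          · rw [e],
        add_zero, map_one, mul_one, OneMemClass.coe_one, irr_apply_one_eq_deg] at hm
      exact ⟨m, by exact_mod_cast hm⟩
  · rintro (hχ | hχ) hd
    · obtain ⟨hl, hr⟩ := mem_ordSet.1 hχ
      have hcong := congr_ord hM hD hr hl
      rw [dvd_sub_right (Int.natCast_dvd_natCast.2 hd)] at hcong
      have := hp.two_le
      rcases hD.sign_diff (χ := χ) ⟨hl, hr⟩ with e | e <;> rw [e] at hcong <;>
        have := Int.natAbs_dvd_natAbs.2 hcong <;> simp at this <;> omega
    · obtain ⟨u, -, rfl⟩ := Finset.mem_image.1 hχ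
      rw [deg_exc hD] at hd
      have hcong := congr_exc hM hD
      rw [dvd_sub_right (Int.natCast_dvd_natCast.2 hd)] at hcong
      have h0 : 0 < eC C := Nat.card_pos
      have h1 : p ∣ eC C := by
        rcases hD.sign with e | e <;> rw [e] at hcong
        · rw [one_mul] at hcong; exact Int.natCast_dvd_natCast.1 hcong
        · rw [neg_one_mul, dvd_neg] at hcong; exact Int.natCast_dvd_natCast.1 hcong
      have := Nat.le_of_dvd h0 h1
      have := hp.two_le
      have := Nat.le_of_dvd (by omega) (eC_dvd C)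
      omega

theorem disjoint_image : Disjoint (ordSet C ν) (Finset.univ.image ν) :=
  Finset.disjoint_left.2 fun _ h1 h2 => (mem_ordSet.1 h1).2 (by
    obtain ⟨u, -, hu⟩ := Finset.mem_image.1 h2
    exact ⟨u, hu⟩)

theorem idx_eq (hC : Core C) : idx C = Nat.card (Sylow p G) := by
  obtain ⟨P, hP⟩ := hC.sylow
  rw [idx, hP]
  exact P.card_eq_index_normalizer.symm

variable [IsSimpleGroup G]

/-- The five characters of degree prime to five. -/
theorem five (hG : Nat.card G = 7920) :
    (Finset.univ.filter (fun χ : IrrCharacter G => ¬ 5 ∣ deg (χ : G → ℂ))).card = 5 ∧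
      ∀ χ : IrrCharacter G, ¬ 5 ∣ deg (χ : G → ℂ) →
        deg (χ : G → ℂ) % 5 = 1 ∨ deg (χ : G → ℂ) % 5 = 4 := by
  haveI : Fact (Nat.Prime 5) := ⟨by norm_num⟩
  haveI : Fact (Nat.Prime 2) := ⟨Nat.prime_two⟩
  obtain ⟨C, hC⟩ := Cfsg.Lib.Small.FourPQ.exists_core (Cfsg.Lib.MathieuEleven.hnc hG) (p := 5)
    (by rw [hG]; norm_num) (by rw [hG]; norm_num)
  obtain ⟨M, hM⟩ := exists_isPModular (Fact.out : Nat.Prime 5)
  obtain ⟨ν, δ, hD⟩ := C.exists_orbitData hM C.oneV
  obtain ⟨P, hP⟩ := hC.sylow
  have hidx : idx C = 396 := by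
    rw [idx_eq hC]
    have h := Cfsg.Lib.Small.card_normalizer_mul P
    rw [Cfsg.Lib.MathieuEleven.five_sylow hG P, hG] at h
    omega
  have heq := card_eq C
  rw [hG, hidx] at heq
  have hev : eC C * Nat.card C.V = 4 := by omega
  have h2 := hC.two_le_eC
  have hV : Nat.card C.V = 1 := by
    by_contra hne
    have he4 : eC C ≤ 4 := Nat.le_of_dvd (by norm_num) (eC_dvd C)
    have hv2 : Nat.card C.V = 2 := by
      interval_cases hE : eC C <;> omega
    obtain ⟨v, hv⟩ := exists_prime_orderOf_dvd_card' (G := C.V) 2 (by rw [hv2])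
    obtain ⟨i, hi⟩ : ∃ i : G, i = ((v : C.H) : G) := ⟨_, rfl⟩
    have hio : orderOf i = 2 := by rw [hi, Subgroup.orderOf_coe, Subgroup.orderOf_coe]; exact hv
    have hy : C.y ∈ Subgroup.centralizer ({i} : Set G) := by
      refine Subgroup.mem_centralizer_singleton_iff.2 ?_
      have h1 := C.conj_yP (v : C.H) 1
      rw [show C.act (v : C.H) = 1 from MonoidHom.mem_ker.1 v.2, Units.val_one, one_mul, C.yP_one,
        mul_inv_eq_iff_eq_mul, ← hi] at h1
      exact h1.symm
    have h5 := Subgroup.orderOf_dvd_natCard _ hy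
    rw [C.order, Cfsg.Lib.MathieuEleven.card_centralizer_involution hG hio] at h5
    norm_num at h5
  have he : eC C = 4 := by rw [hV] at hev; omega
  have hi : (C.E (C.oneV : C.V → ℂ)).index = 1 := by
    have h := index_mul_eC C
    rw [he] at h
    omega
  have hB := filter_not_dvd_deg hC hM hD hV
  refine ⟨?_, fun χ hχ => ?_⟩
  · rw [hB, Finset.card_union_of_disjoint disjoint_image, card_ordSet hD, card_image hD, he, hi]
  have hmem : χ ∈ ordSet C ν ∪ Finset.univ.image ν := hB ▸ Finset.mem_filter.2 ⟨Finset.mem_univ _, hχ⟩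
  rcases Finset.mem_union.1 hmem with h | h
  · obtain ⟨hl, hr⟩ := mem_ordSet.1 h
    have hcong := congr_ord hM hD hr hl
    rcases hD.sign_diff (χ := χ) ⟨hl, hr⟩ with e | e <;> rw [e] at hcong <;> omega
  · obtain ⟨u, -, rfl⟩ := Finset.mem_image.1 h
    have hcong := congr_exc hM hD
    rw [he] at hcong
    rw [deg_exc hD]
    rcases hD.sign with e | e <;> rw [e] at hcong <;> omega

end Cfsg.Lib.Blocks.MathieuDegrees
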