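import Mathlib
import Cfsg.Agent.Blocks.MathieuDegrees.Prime

/-!
# The character degrees of a simple group of order 7920
-/

set_option autoImplicit false
set_option linter.unusedSectionVars false

namespace Cfsg.Lib.Blocks.MathieuDegrees

theorem ord_cases : ∀ d ∈ Finset.range 89, 2 ≤ d → 720 % d = 0 →
    (d % 11 = 1 ∨ d % 11 = 10) → (d % 5 = 0 ∨ d % 5 = 1 ∨ d % 5 = 4) → d = 10 ∨ d = 45 := by
  decide +kernel

theorem exc_cases : ∀ d ∈ Finset.range 89, 720 % d = 0 →
    (d % 11 = 5 ∨ d % 11 = 6) → (d % 5 = 0 ∨ d % 5 = 1 ∨ d % 5 = 4) →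
    d = 5 ∨ d = 6 ∨ d = 16 ∨ d = 60 := by decide +kernel

theorem rest_cases : ∀ d ∈ Finset.range 89, 0 < d → 7920 % d = 0 → d % 11 = 0 →
    (d % 5 = 0 ∧ d = 55) ∨ ((d % 5 = 1 ∨ d % 5 = 4) ∧ (d = 11 ∨ d = 44 ∨ d = 66)) ∨
      d % 5 = 2 ∨ d % 5 = 3 := by decide +kernel

theorem final_eq : ({1, 45, 10, 10, 10, 16, 16} : Multiset ℕ) + ({11, 44} + Multiset.replicate 1 55) =
    {1, 10, 10, 10, 11, 16, 16, 44, 45, 55} ∧
    ({1, 45, 10, 10, 10, 16, 16} : Multiset ℕ) + ({44, 11} + Multiset.replicate 1 55) =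
    {1, 10, 10, 10, 11, 16, 16, 44, 45, 55} := by decide +kernel

open Cfsg Cfsg.Lib.Chars SmallOrder SylowCount DegreeEquation
open scoped _root_.Classical

universe u

theorem multiset_const {ι : Type*} (s : Finset ι) (f : ι → ℕ) (c : ℕ) (h : ∀ i ∈ s, f i = c) :
    s.val.map f = Multiset.replicate s.card c := by
  rw [Multiset.map_congr rfl h]
  exact Multiset.map_const' s.val c

theorem multiset_union {ι : Type*} [DecidableEq ι] {s t : Finset ι} (h : Disjoint s t) (f : ι → ℕ) :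
    (s ∪ t).val.map f = s.val.map f + t.val.map f := by
  rw [← Finset.disjUnion_eq_union s t h, Finset.disjUnion_val, Multiset.map_add]

variable {G : Type u} [Group G] [Fintype G] [IsSimpleGroup G]

/-- The multiset of degrees. -/
theorem degrees (hG : Nat.card G = 7920) :
    (Finset.univ : Finset (IrrCharacter G)).val.map (fun χ : IrrCharacter G => deg (χ : G → ℂ)) =
      {1, 10, 10, 10, 11, 16, 16, 44, 45, 55} := by
  haveI : Fact (Nat.Prime 11) := ⟨by norm_num⟩
  obtain ⟨h5card, h5⟩ := five hG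
  have hmod5 : ∀ χ : IrrCharacter G, deg (χ : G → ℂ) % 5 = 0 ∨ deg (χ : G → ℂ) % 5 = 1 ∨
      deg (χ : G → ℂ) % 5 = 4 := fun χ => by
    by_cases h : 5 ∣ deg (χ : G → ℂ)
    · exact Or.inl (Nat.mod_eq_zero_of_dvd h)
    · exact Or.inr (h5 χ h)
  obtain ⟨C, hC⟩ := Cfsg.Lib.Small.FourPQ.exists_core (Cfsg.Lib.MathieuEleven.hnc hG) (p := 11)
    (by rw [hG]; norm_num) (by rw [hG]; norm_num)
  obtain ⟨M, hM⟩ := exists_isPModular (Fact.out : Nat.Prime 11)
  obtain ⟨ν, δ, hD⟩ := C.exists_orbitData hM C.oneV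
  obtain ⟨P, hP⟩ := hC.sylow
  have hidx : idx C = 144 := by rw [idx_eq hC, (Cfsg.Lib.MathieuEleven.eleven_sylow hG P).2.1]
  have heq := card_eq C
  rw [hG, hidx] at heq
  have hev : eC C * Nat.card C.V = 5 := by omega
  have h2 := hC.two_le_eC
  have he : eC C = 5 := by
    rcases (Nat.dvd_prime (by norm_num : Nat.Prime 5)).1 (Dvd.intro _ hev) with e | e
    · omega
    · exact e
  have hV : Nat.card C.V = 1 := by rw [he] at hev; omega
  have hi : (C.E (C.oneV : C.V → ℂ)).index = 2 := by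
    have h := index_mul_eC C
    rw [he] at h
    omega
  have hbound : ∀ χ : IrrCharacter G, deg (χ : G → ℂ) < 89 := fun χ => by
    have h := Finset.single_le_sum (f := fun ψ : IrrCharacter G => deg (ψ : G → ℂ) ^ 2)
      (fun _ _ => Nat.zero_le _) (Finset.mem_univ χ)
    rw [sum_deg_sq_nat, hG] at h
    nlinarith
  have hB := filter_not_dvd_deg hC hM hD hV
  -- the exceptional characters
  have hexc : δ * (deg (ν 1 : G → ℂ) : ℤ) = 5 ∨ δ * (deg (ν 1 : G → ℂ) : ℤ) = -6 ∨
      δ * (deg (ν 1 : G → ℂ) : ℤ) = 16 ∨ δ * (deg (ν 1 : G → ℂ) : ℤ) = 60 := by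
    have hd := dvd_exc hM hD
    rw [hidx, he] at hd
    have hcong := congr_exc hM hD
    rw [he] at hcong
    rcases hD.sign with e | e <;> rw [e] at hcong ⊢ <;>
      rcases exc_cases _ (Finset.mem_range.2 (hbound (ν 1))) (Nat.mod_eq_zero_of_dvd hd) (by omega) (hmod5 _) with h | h | h | h <;>
        rw [h] at hcong ⊢ <;> simp at hcong ⊢ <;> omega
  have hr : oneG G ∉ Set.range ν := by
    rintro ⟨u, hu⟩
    have hx0 : deg (ν 1 : G → ℂ) = 1 := by rw [← deg_exc hD u, hu, deg_oneG]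
    rw [hx0] at hexc
    rcases hD.sign with e | e <;> rw [e] at hexc <;> omega
  have hm : oneG G ∈ ordSet C ν := mem_ordSet.2 ⟨lies_oneG, hr⟩
  set T := (ordSet C ν).erase (oneG G) with hT
  have hTcard : T.card = 4 := by rw [hT, Finset.card_erase_of_mem hm, card_ordSet hD, he]
  have hord : ∀ χ ∈ T, (deg (χ : G → ℂ) = 45 ∧ C.bI χ C.oneV 1 * (deg (χ : G → ℂ) : ℤ) = 45) ∨
      (deg (χ : G → ℂ) = 10 ∧ C.bI χ C.oneV 1 * (deg (χ : G → ℂ) : ℤ) = -10) := by
    intro χ hχ
    obtain ⟨hl, hr'⟩ := mem_ordSet.1 (Finset.mem_of_mem_erase hχ)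
    have hd := dvd_ord hM hD hr' hl
    rw [hidx, he] at hd
    have hcong := congr_ord hM hD hr' hl
    have h2 : 2 ≤ deg (χ : G → ℂ) := (deg_bounds hC (Finset.ne_of_mem_erase hχ)).1
    rcases hD.sign_diff (χ := χ) ⟨hl, hr'⟩ with e | e <;> rw [e] at hcong ⊢ <;>
      rcases ord_cases _ (Finset.mem_range.2 (hbound χ)) h2 (Nat.mod_eq_zero_of_dvd hd) (by omega) (hmod5 χ) with h | h <;>
        rw [h] at hcong ⊢ <;> simp at hcong ⊢ <;> omega
  set T45 := T.filter (fun χ : IrrCharacter G => deg (χ : G → ℂ) = 45) with hT45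
  have hsum : ∑ χ ∈ T, C.bI χ C.oneV 1 * (deg (χ : G → ℂ) : ℤ) = 55 * (T45.card : ℤ) - 40 := by
    rw [Finset.sum_congr rfl (g := fun χ : IrrCharacter G =>
      55 * (if deg (χ : G → ℂ) = 45 then (1 : ℤ) else 0) - 10) (fun χ hχ => by
        rcases hord χ hχ with ⟨a, b⟩ | ⟨a, b⟩ <;> rw [b, a] <;> norm_num),
      Finset.sum_sub_distrib, ← Finset.mul_sum, Finset.sum_boole, Finset.sum_const, hTcard, ← hT45]
    norm_num
  have hrel := relation hD
  rw [← Finset.add_sum_erase _ _ hm, ← hT, hsum, bI_oneG' hM hD hr, deg_oneG, Nat.cast_one,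
    mul_one] at hrel
  have hk : T45.card = 1 ∧ deg (ν 1 : G → ℂ) = 16 := by
    have : T45.card ≤ 4 := hTcard ▸ Finset.card_filter_le _ _
    rcases hD.sign with e | e <;> rw [e] at hexc hrel <;> rcases hexc with h | h | h | h <;> omega
  have hT10 : (T \ T45).card = 3 := by
    rw [Finset.card_sdiff_of_subset (Finset.filter_subset _ _), ← hT45, hTcard, hk.1]
  have hTmap : T.val.map (fun χ : IrrCharacter G => deg (χ : G → ℂ)) =
      Multiset.replicate 1 45 + Multiset.replicate 3 10 := by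
    conv_lhs => rw [← Finset.union_sdiff_of_subset (Finset.filter_subset
      (fun χ : IrrCharacter G => deg (χ : G → ℂ) = 45) T)]
    rw [multiset_union Finset.disjoint_sdiff, ← hT45,
      multiset_const T45 _ 45 (fun χ hχ => (Finset.mem_filter.1 hχ).2),
      multiset_const (T \ T45) _ 10 fun χ hχ => ?_, hk.1, hT10]
    obtain ⟨h1, h2⟩ := Finset.mem_sdiff.1 hχ
    rcases hord χ h1 with ⟨a, -⟩ | ⟨a, -⟩
    · exact absurd (Finset.mem_filter.2 ⟨h1, a⟩) h2
    · exact a
  set V16 := Finset.univ.image ν with hV16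
  have hVmap : V16.val.map (fun χ : IrrCharacter G => deg (χ : G → ℂ)) = Multiset.replicate 2 16 := by
    rw [multiset_const V16 _ 16 fun χ hχ => ?_, hV16, card_image hD, hi]
    obtain ⟨u, -, rfl⟩ := Finset.mem_image.1 hχ
    rw [deg_exc hD, hk.2]
  set R := Finset.univ.filter (fun χ : IrrCharacter G => 11 ∣ deg (χ : G → ℂ)) with hR
  have huniv : (Finset.univ : Finset (IrrCharacter G)) = (ordSet C ν ∪ V16) ∪ R := by
    rw [← hB]
    ext χ
    simp [hR, em']
  have hdisj : Disjoint (ordSet C ν ∪ V16) R := by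
    rw [← hB]
    exact Finset.disjoint_left.2 fun χ h1 h2 => (Finset.mem_filter.1 h1).2 (Finset.mem_filter.1 h2).2
  have h1map : (ordSet C ν).val.map (fun χ : IrrCharacter G => deg (χ : G → ℂ)) =
      1 ::ₘ (Multiset.replicate 1 45 + Multiset.replicate 3 10) := by
    rw [← hTmap, ← Finset.insert_erase hm, ← hT, Finset.insert_val,
      Multiset.ndinsert_of_notMem (fun h => Finset.notMem_erase _ _ (hT ▸ Finset.mem_def.2 h)),
      Multiset.map_cons, deg_oneG]
  have hblock : (ordSet C ν ∪ V16).val.map (fun χ : IrrCharacter G => deg (χ : G → ℂ)) =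
      {1, 45, 10, 10, 10, 16, 16} := by
    rw [multiset_union disjoint_image, h1map, hVmap]
    rfl
  -- the characters of degree divisible by eleven
  set R' := R.filter (fun χ : IrrCharacter G => ¬ 5 ∣ deg (χ : G → ℂ)) with hR'
  have hrest : ∀ χ ∈ R, (5 ∣ deg (χ : G → ℂ) → deg (χ : G → ℂ) = 55) ∧
      (¬ 5 ∣ deg (χ : G → ℂ) → deg (χ : G → ℂ) = 11 ∨ deg (χ : G → ℂ) = 44 ∨ deg (χ : G → ℂ) = 66) := by
    intro χ hχ
    have hd : deg (χ : G → ℂ) ∣ 7920 := hG ▸ IsIrrCharacter.deg_dvd χ.2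
    have h0 := deg_irr_pos χ
    have hm5 := hmod5 χ
    rcases rest_cases _ (Finset.mem_range.2 (hbound χ)) h0 (Nat.mod_eq_zero_of_dvd hd)
      (Nat.mod_eq_zero_of_dvd (Finset.mem_filter.1 hχ).2) with ⟨a, b⟩ | ⟨a, b⟩ | a | a <;>
      refine ⟨fun h => ?_, fun h => ?_⟩ <;> omega
  have hR'card : R'.card = 2 := by
    have hall := congrArg (fun s : Finset (IrrCharacter G) =>
      (s.val.map (fun χ : IrrCharacter G => deg (χ : G → ℂ))).countP (fun n => ¬ 5 ∣ n)) huniv
    simp only [multiset_union hdisj, Multiset.countP_add, hblock] at hall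
    have e : ∀ s : Finset (IrrCharacter G),
        (s.val.map (fun χ : IrrCharacter G => deg (χ : G → ℂ))).countP (fun n => ¬ 5 ∣ n) =
          (s.filter (fun χ : IrrCharacter G => ¬ 5 ∣ deg (χ : G → ℂ))).card := fun s => by
      rw [Multiset.countP_map]
      rfl
    rw [e, e, h5card, ← hR'] at hall
    have e2 : Multiset.countP (fun n => ¬ 5 ∣ n) ({1, 45, 10, 10, 10, 16, 16} : Multiset ℕ) = 3 := by
      decide
    omega
  obtain ⟨η, θ, hne, hpair⟩ := Finset.card_eq_two.1 hR'card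
  have hη : η ∈ R ∧ ¬ 5 ∣ deg (η : G → ℂ) :=
    Finset.mem_filter.1 (show η ∈ R' by rw [hpair]; simp)
  have hθ : θ ∈ R ∧ ¬ 5 ∣ deg (θ : G → ℂ) :=
    Finset.mem_filter.1 (show θ ∈ R' by rw [hpair]; simp)
  have hRmap : R.val.map (fun χ : IrrCharacter G => deg (χ : G → ℂ)) =
      {deg (η : G → ℂ), deg (θ : G → ℂ)} + Multiset.replicate (R \ R').card 55 := by
    conv_lhs => rw [← Finset.union_sdiff_of_subset (Finset.filter_subset
      (fun χ : IrrCharacter G => ¬ 5 ∣ deg (χ : G → ℂ)) R)]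
    rw [multiset_union Finset.disjoint_sdiff, ← hR',
      multiset_const (R \ R') _ 55 fun χ hχ => ?_]
    · congr 1
      rw [hpair, Finset.insert_val, Multiset.ndinsert_of_notMem (by simpa using hne)]
      rfl
    · obtain ⟨h1, h2⟩ := Finset.mem_sdiff.1 hχ
      refine (hrest χ h1).1 ?_
      by_contra h
      exact h2 (Finset.mem_filter.2 ⟨h1, h⟩)
  have hsq : ((((Finset.univ : Finset (IrrCharacter G)).val.map
      (fun χ : IrrCharacter G => deg (χ : G → ℂ))).map (fun n : ℕ => n ^ 2)).sum) = 7920 := by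
    rw [Multiset.map_map, ← hG, ← sum_deg_sq_nat (G := G)]
    rfl
  rw [huniv, multiset_union hdisj, hblock, hRmap] at hsq ⊢
  simp only [Multiset.map_add, Multiset.sum_add, Multiset.insert_eq_cons, Multiset.map_cons,
    Multiset.map_singleton, Multiset.sum_cons, Multiset.sum_singleton, Multiset.map_replicate,
    Multiset.sum_replicate, smul_eq_mul] at hsq
  have ha := (hrest η hη.1).2 hη.2
  have hb := (hrest θ hθ.1).2 hθ.2
  obtain ⟨k, hk'⟩ : ∃ k, k = (R \ R').card := ⟨_, rfl⟩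
  rw [← hk'] at hsq ⊢
  rcases ha with a | a | a <;> rcases hb with b | b | b <;> rw [a, b] at hsq ⊢ <;> norm_num at hsq
  all_goals first
    | (exfalso; omega)
    | (obtain rfl : k = 1 := by omega
       first
         | exact final_eq.1
         | exact final_eq.2)

end Cfsg.Lib.Blocks.MathieuDegrees
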